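import Groth.Prelude.Def_AdFn
import Groth.Agent.FunFld.Extra

/-! Approximation of adeles by principal adeles. -/

set_option autoImplicit false
universe u

namespace Groth.Agent.AdFnApprox

variable {k K : Type u} [Field k] [Field K] [Algebra k K]

theorem exists_approx (v : FunFld.Place k K) (a : AdFn.Kv v) :
    ∃ x : K, a - AdFn.toKv v x ∈ AdFn.Ov v := by
  have hopen : IsOpen ((fun y => a - y) ⁻¹' (AdFn.Ov v : Set (AdFn.Kv v))) :=
    (AdFn.isOpen_Ov v).preimage (continuous_const.sub continuous_id)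
  obtain ⟨x, hx⟩ := UniformSpace.Completion.denseRange_coe.exists_mem_open hopen
    ⟨a, show a - a ∈ AdFn.Ov v by rw [sub_self]; exact zero_mem _⟩
  exact ⟨WithVal.ofVal x, hx⟩

theorem exists_diag_away [AdFn.HasFinitePoles k K] (hK : FunFld.IsFunctionField k K)
    (S : Set (FunFld.Place k K)) (hS : S.Nonempty) (a : AdFn.AdeleRing k K) :
    ∃ f : K, ∀ v : FunFld.Place k K, v ∉ S →
      AdFn.AdeleRing.proj v (a - AdFn.AdeleRing.diag f) ∈ AdFn.Ov v := by
  classical
  obtain ⟨P, hP⟩ := hS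
  choose x hx using fun v => exists_approx v (AdFn.AdeleRing.proj v a)
  let r : FunFld.Place k K → K := fun v =>
    if AdFn.AdeleRing.proj v a ∈ AdFn.Ov v then 0 else x v
  have hr : ∀ v, AdFn.AdeleRing.proj v a - AdFn.toKv v (r v) ∈ AdFn.Ov v := fun v => by
    dsimp only [r]
    split_ifs with h
    · rwa [map_zero, sub_zero]
    · exact hx v
  have hadele : r ∈ FunFld.adele k K := by
    have hev : ∀ᶠ v in Filter.cofinite, AdFn.AdeleRing.proj v a ∈ AdFn.Ov v := a.2
    show ∀ᶠ v in Filter.cofinite, _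
    refine hev.mono fun v hv => ?_
    simp [r, hv]
  obtain ⟨N, hN⟩ := Groth.Agent.FunFld.exists_deg_bound hK
  set E : FunFld.Divisor k K := Finsupp.single P (N.toNat : ℤ)
  have hdeg : N ≤ E.deg := by
    rw [Groth.Agent.FunFld.deg_single]
    have h1 : (1 : ℤ) ≤ P.deg := by exact_mod_cast Groth.Agent.FunFld.deg_pos hK P
    have := Int.self_le_toNat N
    nlinarith [Int.natCast_nonneg N.toNat]
  obtain ⟨hfE, heE⟩ := Groth.Agent.FunFld.adele_idx hK E
  rw [hN E hdeg, sub_self] at heE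
  have hsubE : Subsingleton (↥(FunFld.adele k K) ⧸ FunFld.ADK E) :=
    Module.finrank_zero_iff.1 (by exact_mod_cast heE)
  rw [Submodule.Quotient.subsingleton_iff] at hsubE
  obtain ⟨b, hb, _, ⟨f, rfl⟩, hbc⟩ := Submodule.mem_sup.1
    (show r ∈ FunFld.AD E ⊔ LinearMap.range (FunFld.diag k K) from
      (hsubE ▸ Submodule.mem_top : (⟨r, hadele⟩ : FunFld.adele k K) ∈ FunFld.ADK E))
  refine ⟨f, fun v hv => ?_⟩
  have hbv : v.1 (b v) ≤ 1 := by
    have := hb v
    simpa [E, Finsupp.single_eq_of_ne (fun h : v = P => hv (h ▸ hP))] using this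
  have hrf : r v = b v + f := (congrFun hbc v).symm
  rw [map_sub, AdFn.AdeleRing.proj_diag]
  have := add_mem (hr v) ((AdFn.toKv_mem_Ov v (b v)).mpr hbv)
  rw [hrf, map_add] at this
  convert this using 1
  ring

theorem exists_iff_SInt [AdFn.HasFinitePoles k K] (S : Set (FunFld.Place k K))
    (b : AdFn.AdeleRing k K) (hb : ∀ v : FunFld.Place k K, v ∉ S → AdFn.AdeleRing.proj v b = 0) :
    (∃ f : K, ∀ v : FunFld.Place k K, AdFn.AdeleRing.proj v (b - AdFn.AdeleRing.diag f) ∈ AdFn.Ov v) ↔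
      ∃ f ∈ AdFn.SInt S, ∀ v ∈ S, AdFn.AdeleRing.proj v b - AdFn.toKv v f ∈ AdFn.Ov v := by
  simp only [map_sub, AdFn.AdeleRing.proj_diag]
  constructor
  · rintro ⟨f, hf⟩
    refine ⟨f, fun v hv => ?_, fun v _ => hf v⟩
    have := hf v
    rw [hb v hv, zero_sub, neg_mem_iff, AdFn.toKv_mem_Ov] at this
    exact this
  · rintro ⟨f, hfS, hf⟩
    refine ⟨f, fun v => ?_⟩
    by_cases hv : v ∈ S
    · exact hf v hv
    · rw [hb v hv, zero_sub, neg_mem_iff, AdFn.toKv_mem_Ov]
      exact hfS v hv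

theorem quot_completion (P : FunFld.Place k K)
    (h99 : FiniteDimensional k (K ⧸ (Subalgebra.toSubmodule (AdFn.SInt ({P} : Set (FunFld.Place k K))) ⊔
        Subalgebra.toSubmodule (AdFn.SInt (({P} : Set (FunFld.Place k K))ᶜ)))) ∧
      Module.finrank k (K ⧸ (Subalgebra.toSubmodule (AdFn.SInt ({P} : Set (FunFld.Place k K))) ⊔
        Subalgebra.toSubmodule (AdFn.SInt (({P} : Set (FunFld.Place k K))ᶜ)))) = FunFld.genus k K) :
    FiniteDimensional k (AdFn.Kv P ⧸
        (Subalgebra.toSubmodule ((AdFn.SInt ({P} : Set (FunFld.Place k K))).map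
            (IsScalarTower.toAlgHom k K (AdFn.Kv P))) ⊔
          Submodule.span k (AdFn.Ov P : Set (AdFn.Kv P)))) ∧
    Module.finrank k (AdFn.Kv P ⧸
        (Subalgebra.toSubmodule ((AdFn.SInt ({P} : Set (FunFld.Place k K))).map
            (IsScalarTower.toAlgHom k K (AdFn.Kv P))) ⊔
          Submodule.span k (AdFn.Ov P : Set (AdFn.Kv P)))) = FunFld.genus k K := by
  set D := Subalgebra.toSubmodule ((AdFn.SInt ({P} : Set (FunFld.Place k K))).map
    (IsScalarTower.toAlgHom k K (AdFn.Kv P))) ⊔ Submodule.span k (AdFn.Ov P : Set (AdFn.Kv P))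
  let O : Submodule k (AdFn.Kv P) :=
    { carrier := AdFn.Ov P
      add_mem' := fun {x y} hx hy => add_mem hx hy
      zero_mem' := zero_mem _
      smul_mem' := fun c x hx => by
        show c • x ∈ AdFn.Ov P
        rw [Algebra.smul_def, IsScalarTower.algebraMap_apply k K (AdFn.Kv P)]
        exact mul_mem ((AdFn.toKv_mem_Ov P _).mpr (P.2.1 c)) hx }
  have hspan : Submodule.span k (AdFn.Ov P : Set (AdFn.Kv P)) = O := Submodule.span_eq O
  let φ : K →ₗ[k] AdFn.Kv P ⧸ D := D.mkQ ∘ₗ (IsScalarTower.toAlgHom k K (AdFn.Kv P)).toLinearMap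
  have hsurj : Function.Surjective φ := fun q => by
    obtain ⟨a, rfl⟩ := D.mkQ_surjective q
    obtain ⟨x, hx⟩ := exists_approx P a
    refine ⟨x, ((Submodule.Quotient.eq D).mpr (Submodule.mem_sup_right ?_)).symm⟩
    exact Submodule.subset_span hx
  have hker : LinearMap.ker φ = Subalgebra.toSubmodule (AdFn.SInt ({P} : Set (FunFld.Place k K))) ⊔
      Subalgebra.toSubmodule (AdFn.SInt (({P} : Set (FunFld.Place k K))ᶜ)) := by
    ext x
    rw [LinearMap.mem_ker]
    show Submodule.Quotient.mk (AdFn.toKv P x) = 0 ↔ _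
    rw [Submodule.Quotient.mk_eq_zero, Submodule.mem_sup, Submodule.mem_sup]
    constructor
    · intro hx
      obtain ⟨_, ⟨z, hz, rfl⟩, w, hw, h⟩ := hx
      rw [hspan] at hw
      refine ⟨z, hz, x - z, fun Q hQ => ?_, by abel⟩
      obtain rfl : Q = P := not_not.1 hQ
      rw [← AdFn.toKv_mem_Ov, map_sub, ← h]
      show AdFn.toKv Q z + w - AdFn.toKv Q z ∈ AdFn.Ov Q
      rw [add_sub_cancel_left]
      exact hw
    · rintro ⟨z, hz, w, hw, rfl⟩
      exact ⟨_, ⟨z, hz, rfl⟩, _, Submodule.subset_span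
        ((AdFn.toKv_mem_Ov P w).mpr (hw P (fun h => h rfl))), (map_add _ _ _).symm⟩
  let e := (Submodule.quotEquivOfEq _ _ hker.symm).trans (φ.quotKerEquivOfSurjective hsurj)
  have := h99.1
  exact ⟨Module.Finite.equiv e, by rw [← e.finrank_eq, h99.2]⟩

end Groth.Agent.AdFnApprox
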